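import Cfsg.Agent.PLocal.Thompson
import Cfsg.Agent.PLocal.Quadratic
import Cfsg.Agent.LocalStructure.Tools

/-!
# Two-elements moving `p`-subgroups

`Pair p Y`: the subgroup `Y` has a `p`-subgroup and a two-element normalising but not centralising it.
Lifting from quotients, and the climb to the normaliser of `Z(J)` of a Sylow subgroup.
-/

set_option autoImplicit false

universe u

namespace CfsgLib.SEmbed.EvenAut

open Cfsg Subgroup

variable {G : Type*} [Group G] {p : ℕ}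

/-- `Y` contains a `p`-subgroup `T` and a two-element of `N(T)` not centralising `T`. -/
def Pair (p : ℕ) (Y : Subgroup G) : Prop :=
  ∃ T : Subgroup G, T ≤ Y ∧ IsPGroup p T ∧ ∃ x ∈ Y, (∃ k : ℕ, x ^ 2 ^ k = 1) ∧
    x ∈ normalizer (T : Set G) ∧ x ∉ centralizer (T : Set G)

theorem Pair.mono {Y Y' : Subgroup G} (h : Pair p Y) (hle : Y ≤ Y') : Pair p Y' := by
  obtain ⟨T, hT, hTp, x, hx, h2, hn, hc⟩ := h
  exact ⟨T, hT.trans hle, hTp, x, hle hx, h2, hn, hc⟩

theorem Pair.map {H : Type*} [Group H] {f : G →* H} (hf : Function.Injective f) {Y : Subgroup G}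
    (h : Pair p Y) : Pair p (Y.map f) := by
  obtain ⟨T, hT, hTp, x, hx, ⟨k, hk⟩, hn, hc⟩ := h
  refine ⟨T.map f, map_mono hT, hTp.map f, f x, mem_map_of_mem f hx,
    ⟨k, by rw [← map_pow, hk, map_one]⟩, le_normalizer_map f (mem_map_of_mem f hn), fun hcen => hc ?_⟩
  rw [mem_centralizer_iff]
  intro t ht
  apply hf
  rw [map_mul, map_mul]
  exact mem_centralizer_iff.1 hcen _ (mem_map_of_mem f ht)

theorem Pair.subgroupOf {Y : Subgroup G} (h : Pair p Y) : Pair p (⊤ : Subgroup Y) := by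
  obtain ⟨T, hT, hTp, x, hx, ⟨k, hk⟩, hn, hc⟩ := h
  refine ⟨T.subgroupOf Y, le_top, hTp.comap_subtype, ⟨x, hx⟩, mem_top _, ⟨k, Subtype.ext hk⟩, ?_,
    fun hcen => hc ?_⟩
  · rw [mem_normalizer_iff]
    intro z
    exact mem_normalizer_iff.1 hn z
  · rw [mem_centralizer_iff]
    intro t ht
    exact congrArg Subtype.val (mem_centralizer_iff.1 hcen ⟨t, hT ht⟩ ht)

theorem Pair.exists_ne_bot {Y : Subgroup G} (h : Pair p Y) :
    ∃ T : Subgroup G, T ≠ ⊥ ∧ IsPGroup p T ∧ Pair p (normalizer (T : Set G)) := by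
  obtain ⟨T, -, hTp, x, -, h2, hn, hc⟩ := h
  refine ⟨T, fun hT => hc ?_, hTp, T, le_normalizer, hTp, x, hn, h2, hn, hc⟩
  rw [hT, mem_centralizer_iff]
  intro t ht
  rw [mem_bot.1 ht, one_mul, mul_one]

/-- A power of `n` is a two-element with the same image as a power of the image `y` of a two-element. -/
theorem exists_two_pow_lift [Finite G] {K : Type*} [Group K] (π : G →* K) {n : G} {k : ℕ}
    (hn : π n ^ 2 ^ k = 1) :
    ∃ m : ℕ, (∃ l : ℕ, (n ^ m) ^ 2 ^ l = 1) ∧ π n ∈ zpowers (π (n ^ m)) := by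
  obtain ⟨i, m, hm, hi⟩ :=
    Nat.exists_eq_pow_mul_and_not_dvd (orderOf_pos n).ne' 2 (by norm_num)
  refine ⟨m, ⟨i, by rw [← pow_mul, mul_comm, ← hi, pow_orderOf_eq_one]⟩, ?_⟩
  have hcop : Nat.Coprime (orderOf (π n)) m :=
    ((Nat.Prime.coprime_iff_not_dvd Nat.prime_two).2 hm).pow_left k |>.coprime_dvd_left
      (orderOf_dvd_of_pow_eq_one hn)
  obtain ⟨j, hj⟩ := exists_pow_eq_self_of_coprime (x := π n) (n := m) hcop.symm
  rw [map_pow]
  exact ⟨(j : ℤ), by simpa using hj⟩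

section Quotient

variable [Finite G] [Fact p.Prime] (N : Subgroup G) [N.Normal]

/-- Pairs lift from quotients. -/
theorem Pair.of_quotient {Y : Subgroup (G ⧸ N)} (h : Pair p Y) :
    Pair p (Y.comap (QuotientGroup.mk' N)) := by
  obtain ⟨T, hTY, hTp, x, hx, ⟨k, hk⟩, hxn, hxc⟩ := h
  set π := QuotientGroup.mk' N with hπ
  set K := T.comap π with hK
  let S : Sylow p K := default
  set S' := (S : Subgroup K).map K.subtype with hS'
  have hS'K : S' ≤ K := map_subtype_le _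
  -- `S'` maps onto `T`
  have hmap : S'.map π = T := by
    refine le_antisymm ((map_mono hS'K).trans (map_comap_le _ _)) fun y hy => ?_
    let g : K →* T := (π.comp K.subtype).codRestrict T fun z => z.2
    have hg : Function.Surjective g := by
      rintro ⟨z, hz⟩
      obtain ⟨w, rfl⟩ := QuotientGroup.mk'_surjective N z
      exact ⟨⟨w, hz⟩, rfl⟩
    have htop : (S : Subgroup K).map g = ⊤ :=
      ((S.mapSurjective hg).is_maximal' (hTp.to_subgroup ⊤) le_top).symm
    obtain ⟨z, hz, hzy⟩ := htop.ge (mem_top (⟨y, hy⟩ : T))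
    exact ⟨z, mem_map_of_mem _ hz, congrArg Subtype.val hzy⟩
  -- an exact lift of `x` normalising `S'`
  obtain ⟨x₀, rfl⟩ := QuotientGroup.mk'_surjective N x
  have hx₀ : x₀ ∈ normalizer (K : Set G) := le_normalizer_comap π hxn
  obtain ⟨a, ha, c, hc, hac⟩ := CfsgLib.LocalStructure.frattini_argument
    (L := normalizer (K : Set G)) le_normalizer le_rfl S hx₀
  obtain ⟨s, hs, hsc⟩ := hmap.ge (show π c ∈ T from hc)
  have hcov : ∃ n ∈ normalizer (S' : Set G), π n = π x₀ :=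
    ⟨a * s, mul_mem ha.2 (le_normalizer hs), by rw [map_mul, hsc, ← map_mul, ← hac]⟩
  obtain ⟨n, hn, hnx⟩ := hcov
  obtain ⟨m, hm, hgen⟩ := exists_two_pow_lift π (k := k) (show π n ^ 2 ^ k = 1 by rw [hnx, hk])
  refine ⟨S', fun z hz => mem_comap.2 (hTY (hS'K hz)), S.2.map _, n ^ m, ?_, hm,
    pow_mem hn m, fun hc => hxc ?_⟩
  · rw [mem_comap, map_pow, hnx]
    exact pow_mem hx m
  · rw [← hnx]
    refine zpowers_le.2 ?_ hgen
    rw [← hmap, mem_centralizer_iff]
    rintro _ ⟨t, ht, rfl⟩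
    rw [← map_mul, ← map_mul, mem_centralizer_iff.1 hc t ht]

end Quotient

end CfsgLib.SEmbed.EvenAut
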