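import Cfsg.Agent.SEmbed.EvenAut.Basic

/-!
# `Z(J)` and the climb
-/

set_option autoImplicit false

universe u

namespace CfsgLib.SEmbed.EvenAut

open Cfsg Subgroup CfsgLib.PLocal

variable {G : Type u} [Group G] {p : ℕ}

/-- The statement to be proved by induction. -/
def Holds (p : ℕ) (G : Type u) [Group G] : Prop :=
  Pair p (⊤ : Subgroup G) → ∀ S : Sylow p G,
    Pair p (normalizer (centerThompsonAOf (S : Subgroup G) : Set G))

theorem centerThompson_le (R : Subgroup G) : centerThompsonAOf R ≤ R :=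
  inf_le_left.trans (thompsonSubgroupAOf_le R)

theorem centerThompson_comm (R : Subgroup G) : IsMulCommutative (centerThompsonAOf R) :=
  le_centralizer_iff_isMulCommutative.mp (inf_le_right.trans (centralizer_le inf_le_left))

theorem normalizer_le_normalizer_centerThompson (R : Subgroup G) :
    normalizer (R : Set G) ≤ normalizer (centerThompsonAOf R : Set G) := by
  intro g hg
  rw [mem_normalizer_iff_map_conj_eq] at hg ⊢
  exact (map_centerThompsonAOf (f := (MulAut.conj g).toMonoidHom) (MulAut.conj g).injective R).trans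
    (congrArg _ hg)

theorem le_normalizer_centerThompson (R : Subgroup G) :
    R ≤ normalizer (centerThompsonAOf R : Set G) :=
  le_normalizer.trans (normalizer_le_normalizer_centerThompson R)

/-- An element of `R` centralising an abelian subgroup of largest order lies in it. -/
theorem mem_of_centralizes_maxAb [Finite G] {R A : Subgroup G} (hA : A ∈ maxAbIn R) {w : G}
    (hw : w ∈ R) (hc : ∀ a ∈ A, a * w = w * a) : w ∈ A := by
  have hle : A ≤ centralizer (zpowers w : Set G) := by
    rw [le_centralizer_iff, zpowers_le]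
    exact mem_centralizer_iff.2 hc
  have h1 := hA.2.2 _ (sup_le hA.1 (zpowers_le.2 hw))
    (PLocal.isMulCommutative_sup hA.2.1 (isMulCommutative_zpowers w) hle)
  rw [eq_of_le_of_card_ge (le_sup_left : A ≤ A ⊔ zpowers w) h1]
  exact mem_sup_right (mem_zpowers w)

theorem centerThompson_le_maxAb [Finite G] {R A : Subgroup G} (hA : A ∈ maxAbIn R) :
    centerThompsonAOf R ≤ A := fun _ hz =>
  mem_of_centralizes_maxAb hA (centerThompson_le R hz) fun a ha =>
    mem_centralizer_iff.1 hz.2 a (le_thompsonSubgroupAOf hA ha)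

/-- `Z(J(R))` is nontrivial for a nontrivial `p`-group. -/
theorem centerThompson_ne_bot [Finite G] [Fact p.Prime] {R : Subgroup G} (hR : IsPGroup p R)
    (hne : R ≠ ⊥) : centerThompsonAOf R ≠ ⊥ := by
  set J := thompsonSubgroupAOf R with hJ
  have hJne : J ≠ ⊥ := by
    intro h0
    obtain ⟨A, hA⟩ := maxAbIn_nonempty R
    obtain ⟨z, hz, hz1⟩ := R.bot_or_exists_ne_one.resolve_left hne
    have h1 : Nat.card (zpowers z) ≤ Nat.card A :=
      hA.2.2 _ (zpowers_le.2 hz) (isMulCommutative_zpowers z)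
    have hAbot : A = ⊥ := le_bot_iff.1 (h0 ▸ le_thompsonSubgroupAOf hA)
    rw [hAbot, Subgroup.card_bot] at h1
    have h2 : zpowers z = ⊥ := card_eq_one.1 (le_antisymm h1 Nat.card_pos)
    exact hz1 (zpowers_eq_bot.1 h2)
  haveI : Nontrivial J := J.nontrivial_iff_ne_bot.2 hJne
  haveI := IsPGroup.center_nontrivial (hR.to_le (thompsonSubgroupAOf_le R))
  obtain ⟨⟨z, hz⟩, hz1⟩ := exists_ne (1 : center J)
  intro h0
  apply hz1
  have : (z : G) ∈ centerThompsonAOf R := ⟨z.2, mem_centralizer_iff.2 fun y hy =>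
    congrArg Subtype.val (mem_center_iff.1 hz ⟨y, hy⟩)⟩
  rw [h0, mem_bot] at this
  exact Subtype.ext (Subtype.ext this)

variable [Finite G]

theorem exists_maximal_pGroup {A Y : Subgroup G} (hA : IsPGroup p A) (hAY : A ≤ Y) :
    ∃ R : Subgroup G, A ≤ R ∧ R ≤ Y ∧ IsPGroup p R ∧
      ∀ R' : Subgroup G, IsPGroup p R' → R' ≤ Y → R ≤ R' → R' = R := by
  obtain ⟨R, ⟨hAR, hRY, hR⟩, hmax⟩ := Set.exists_max_image
    {R : Subgroup G | A ≤ R ∧ R ≤ Y ∧ IsPGroup p R} (fun R => Nat.card R) (Set.toFinite _)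
    ⟨A, le_rfl, hAY, hA⟩
  exact ⟨R, hAR, hRY, hR, fun R' hR' hR'Y hle =>
    (eq_of_le_of_card_ge hle (hmax R' ⟨hAR.trans hle, hR'Y, hR'⟩)).symm⟩

/-- The induction hypothesis inside a proper subgroup. -/
theorem pair_of_holds {Y R : Subgroup G} (hY : Holds p Y) (hRY : R ≤ Y) (hR : IsPGroup p R)
    (hmax : ∀ R' : Subgroup G, IsPGroup p R' → R' ≤ Y → R ≤ R' → R' = R) (hp : Pair p Y) :
    Pair p (normalizer (centerThompsonAOf R : Set G)) := by
  let S : Sylow p Y :=
    ⟨R.subgroupOf Y, hR.comap_subtype, fun {Q} hQ hle => by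
      have h1 := hmax (Q.map Y.subtype) (hQ.map _) (map_subtype_le _) (fun r hr =>
        ⟨⟨r, hRY hr⟩, hle hr, rfl⟩)
      refine le_antisymm (fun q hq => ?_) hle
      show (q : G) ∈ R
      rw [← h1]
      exact mem_map_of_mem Y.subtype hq⟩
  have h := ((hY hp.subgroupOf S).map Y.subtype_injective).mono
    (le_normalizer_map Y.subtype)
  rwa [map_centerThompsonAOf Y.subtype_injective,
    show (S : Subgroup Y).map Y.subtype = R from map_subgroupOf_eq_of_le hRY] at h

variable [Fact p.Prime]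

/-- **The climb**: a proper subgroup with a pair, in which no overgroup `R` of `A` has normal `Z(J(R))`. -/
theorem climb (hIH : ∀ Y : Subgroup G, Y ≠ ⊤ → Holds p Y) {A Y : Subgroup G} (hA : IsPGroup p A)
    (hnn : ∀ R : Subgroup G, IsPGroup p R → A ≤ R →
      normalizer (centerThompsonAOf R : Set G) ≠ ⊤)
    (hY : Y ≠ ⊤) (hAY : A ≤ Y) (hp : Pair p Y) (S : Sylow p G) :
    Pair p (normalizer (centerThompsonAOf (S : Subgroup G) : Set G)) := by
  obtain ⟨R₁, hAR₁, hR₁Y, hR₁, hmax₁⟩ := exists_maximal_pGroup hA hAY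
  obtain ⟨R, ⟨hR, hAR, hRp⟩, hmax⟩ := Set.exists_max_image
    {R : Subgroup G | IsPGroup p R ∧ A ≤ R ∧ Pair p (normalizer (centerThompsonAOf R : Set G))}
    (fun R => Nat.card R) (Set.toFinite _)
    ⟨R₁, hR₁, hAR₁, pair_of_holds (hIH Y hY) hR₁Y hR₁ hmax₁ hp⟩
  set N := normalizer (centerThompsonAOf R : Set G) with hN
  obtain ⟨R', hRR', hR'N, hR', hmax'⟩ := exists_maximal_pGroup hR (le_normalizer_centerThompson R)
  have heq : R = R' := eq_of_le_of_card_ge hRR' (hmax R' ⟨hR', hAR.trans hRR',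
    pair_of_holds (hIH N (hnn R hR hAR)) hR'N hR' hmax' hRp⟩)
  obtain ⟨S₀, hS₀⟩ := hR.exists_le_sylow
  have hRS₀ : R = S₀ := by
    by_contra hne
    have hlt : R.subgroupOf (S₀ : Subgroup G) < ⊤ := lt_top_iff_ne_top.2 fun h =>
      hne (le_antisymm hS₀ (subgroupOf_eq_top.1 h))
    haveI := S₀.isPGroup'.isNilpotent
    have hgrow := Group.normalizerCondition_of_isNilpotent _ hlt
    obtain ⟨y, hy, hyR⟩ := SetLike.exists_of_lt hgrow
    have hyn : (y : G) ∈ normalizer (R : Set G) := by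
      rw [mem_normalizer_iff]
      intro z
      constructor
      · intro hz
        exact (mem_normalizer_iff.1 hy ⟨z, hS₀ hz⟩).1 hz
      · intro hz
        have hz' : z ∈ (S₀ : Subgroup G) := by
          simpa [mul_assoc] using (S₀ : Subgroup G).mul_mem ((S₀ : Subgroup G).mul_mem
            (inv_mem y.2) (hS₀ hz)) y.2
        exact (mem_normalizer_iff.1 hy ⟨z, hz'⟩).2 hz
    have hsup : IsPGroup p ↥(R ⊔ zpowers (y : G)) :=
      S₀.isPGroup'.to_le (sup_le hS₀ (zpowers_le.2 y.2))
    have h1 := hmax' (R ⊔ zpowers (y : G)) hsup (sup_le (le_normalizer_centerThompson R)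
      (zpowers_le.2 (normalizer_le_normalizer_centerThompson R hyn))) (heq ▸ le_sup_left)
    exact hyR (show (y : G) ∈ R from heq ▸ h1 ▸ mem_sup_right (mem_zpowers _))
  obtain ⟨c, hc⟩ := MulAction.exists_smul_eq G S₀ S
  have hc' : (S₀ : Subgroup G).map (MulAut.conj c).toMonoidHom = S := by rw [← hc]; rfl
  have h := (hRp.map (f := (MulAut.conj c).toMonoidHom) (MulAut.conj c).injective).mono
    (le_normalizer_map _)
  rwa [map_centerThompsonAOf (f := (MulAut.conj c).toMonoidHom) (MulAut.conj c).injective,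
    hRS₀, hc'] at h

end CfsgLib.SEmbed.EvenAut
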