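import Cfsg.Agent.SEmbed.EvenAut.Basic
import Cfsg.Agent.PLocal.PStability
import Cfsg.Agent.Techniques.QuadraticPair
import Cfsg.Agent.Techniques.StableQuotient

/-!
# Two conjugate quadratic elements give a two-element which moves `V`

Two quadratic elements generating no `p`-group modulo the kernel give a two-element acting as `-1` on a plane over
the algebraic closure; it can be chosen to normalise a `p`-group containing the first of them.
-/

set_option autoImplicit false

namespace CfsgLib.SEmbed.EvenAut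

open Cfsg Subgroup CfsgLib.PLocal
open scoped commutatorElement MatrixGroups IsMulCommutative

variable {X : Type*} [Group X] [Finite X] {p : ℕ} [Fact p.Prime]

theorem exists_two_element_of_quadratic_pair (hp2 : p ≠ 2) {A : Type*} [AddCommGroup A] [Finite A]
    (hA : ∀ v : A, p • v = 0) (ρ : X →* AddMonoid.End A) {a b : X}
    (hgen : Subgroup.closure ({a, b} : Set X) = ⊤) (ha : (ρ a - 1) * (ρ a - 1) = 0)
    (hb : (ρ b - 1) * (ρ b - 1) = 0) (hap : IsPGroup p (zpowers a))
    (hnp : ∃ g : X, ∀ k : ℕ, ρ (g ^ p ^ k) ≠ 1) :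
    ∃ j : X, (∃ l : ℕ, j ^ 2 ^ l = 1) ∧ ρ j ≠ 1 ∧
      ∃ R : Subgroup X, IsPGroup p R ∧ a ∈ R ∧ j ∈ normalizer (R : Set X) := by
  classical
  obtain ⟨φ, hφ, hta, htb, hnc⟩ := exists_hom_of_quadratic_pair hA ρ hgen ha hb hnp
  haveI : CharP (AlgebraicClosure (ZMod p)) p :=
    charP_of_injective_algebraMap (algebraMap (ZMod p) _).injective p
  haveI : Finite φ.range := Finite.of_surjective φ.rangeRestrict φ.rangeRestrict_surjective
  obtain ⟨f, hf, hfr⟩ := SL2.exists_sl2_zmod_hom hp2 φ.range ⟨a, rfl⟩ ⟨b, rfl⟩ hta htb hnc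
  set K := AlgebraicClosure (ZMod p)
  have h2 : (2 : K) ≠ 0 := SL2.two_ne_zero' (p := p) hp2
  have h1ne : (-1 : SL(2, K)) ≠ 1 := fun h => by
    have := congrArg (fun g : SL(2, K) => g 0 0) h
    simp at this
    exact h2 (by linear_combination -this)
  have hneg : f (-1) = -1 := by
    refine Techniques.QPair.eq_neg_one_of_sq h2 ?_ ?_
    · rw [← map_mul, neg_mul_neg, one_mul, map_one]
    · intro h
      have h1 : (-1 : SL(2, ZMod p)) = 1 := hf (by rw [h, map_one])
      have := congrArg (fun g : SL(2, ZMod p) => g 0 0) h1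
      simp at this
      exact SL2.two_ne_zero' (K := ZMod p) (p := p) hp2 (by linear_combination -this)
  obtain ⟨t, ht⟩ := hfr ⟨-1, hneg⟩
  -- the preimage of `⟨φ a⟩` and one of its Sylow subgroups through `a`
  set H₀ := (zpowers (φ a)).comap φ with hH₀
  have htn : t ∈ normalizer (H₀ : Set X) := by
    refine le_normalizer_comap φ ?_
    show φ t ∈ normalizer (zpowers (φ a) : Set SL(2, K))
    rw [ht, mem_normalizer_iff]
    intro z
    simp
  have haH : zpowers a ≤ H₀ := zpowers_le.2 (mem_zpowers (φ a))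
  obtain ⟨R, hR⟩ := (hap.comap_subtype (K := H₀)).exists_le_sylow
  obtain ⟨s, hs, c, hc, hsc⟩ := LocalStructure.frattini_argument
    (L := normalizer (H₀ : Set X)) le_normalizer le_rfl R htn
  obtain ⟨i, hi⟩ := mem_zpowers_iff.1 (show φ c ∈ zpowers (φ a) from hc)
  obtain ⟨e, he⟩ : ∃ e : ℕ, φ a ^ p ^ e = 1 := by
    obtain ⟨e, he⟩ := hap ⟨a, mem_zpowers a⟩
    exact ⟨e, by rw [← map_pow, show a ^ p ^ e = 1 from congrArg Subtype.val he, map_one]⟩
  have hspow : φ (s ^ p ^ e) = -1 := by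
    have h1 : φ s = -1 * φ a ^ (-i) := by
      rw [zpow_neg, hi, eq_mul_inv_iff_mul_eq, ← map_mul, ← hsc, ht]
    rw [map_pow, h1, ((Commute.one_left _).neg_left).mul_pow,
      (((Fact.out : p.Prime).odd_of_ne_two hp2).pow).neg_one_pow, ← zpow_natCast (φ a ^ (-i)),
      ← zpow_mul, mul_comm (-i), zpow_mul, zpow_natCast, he, one_zpow, mul_one]
  obtain ⟨m, hm, hgen'⟩ := exists_two_pow_lift φ (n := s ^ p ^ e) (k := 1)
    (show φ (s ^ p ^ e) ^ 2 ^ 1 = 1 by rw [hspow, pow_one, neg_one_sq])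
  refine ⟨(s ^ p ^ e) ^ m, hm, fun h => ?_, (R : Subgroup H₀).map H₀.subtype, R.2.map _, ?_,
    pow_mem (pow_mem hs.2 _) _⟩
  · rw [hφ _ h, zpowers_one_eq_bot, mem_bot, hspow] at hgen'
    exact h1ne hgen'
  · exact ⟨⟨a, haH (mem_zpowers a)⟩, hR (mem_subgroupOf.2 (mem_zpowers a)), rfl⟩

variable {G : Type*} [Group G] [Finite G]

/-- In the group: a normal `p`-subgroup `V`, a `p`-element `g` quadratic on `V` and a conjugate which together
generate no `p`-group modulo `F ≥ C(V)`. -/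
theorem exists_two_element_conj (hp2 : p ≠ 2) {V F : Subgroup G} [V.Normal] [F.Normal]
    (hV : IsPGroup p V) (hCF : centralizer (V : Set G) ≤ F) {g k : G} (hg : IsPGroup p (zpowers g))
    (hq : ∀ v ∈ V, Commute ⁅v, g⁆ g)
    (hnot : ¬ IsPGroup p ↥(Subgroup.closure ({(QuotientGroup.mk' F) g,
      (QuotientGroup.mk' F) (k * g * k⁻¹)} : Set (G ⧸ F)))) :
    ∃ j : G, (∃ l : ℕ, j ^ 2 ^ l = 1) ∧ j ∉ centralizer (V : Set G) ∧
      ∃ R : Subgroup G, IsPGroup p R ∧ g ∈ R ∧ j ∈ normalizer (R : Set G) := by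
  set Φ : Subgroup G := (frattini V).map V.subtype with hΦ
  haveI : Φ.Normal := normal_map_subtype V (frattini ↥V)
  set π := QuotientGroup.mk' Φ with hπ
  set U := V.map π with hU
  haveI : U.Normal := Subgroup.Normal.map inferInstance _ (QuotientGroup.mk'_surjective _)
  have hUe : IsElementaryAbelian p U := isElementaryAbelian_map_frattini hV
  haveI := hUe.1
  have hN : ∀ x : G ⧸ Φ, x ∈ normalizer (U : Set (G ⧸ Φ)) := fun x => by
    rw [normalizer_eq_top U]; exact mem_top x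
  set L := Subgroup.closure ({g, k * g * k⁻¹} : Set G) with hL
  let a : L := ⟨g, subset_closure (Or.inl rfl)⟩
  let b : L := ⟨k * g * k⁻¹, subset_closure (Or.inr rfl)⟩
  have hgen : Subgroup.closure ({a, b} : Set L) = ⊤ := by
    apply map_injective L.subtype_injective
    rw [MonoidHom.map_closure, ← MonoidHom.range_eq_map, range_subtype]
    simp [hL, a, b, Set.image_insert_eq, Set.image_singleton]
  let ρ : L →* AddMonoid.End (Additive U) :=
    (normEnd U).comp ((π.comp L.subtype).codRestrict _ fun x => hN _)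
  have hρ : ∀ x : L, ρ x = 1 ↔ π x ∈ centralizer (U : Set (G ⧸ Φ)) := fun x => normEnd_eq_one_iff U
  have hexp : ∀ v : Additive U, p • v = 0 := fun v =>
    Additive.toMul.injective (show v.toMul ^ p = 1 from Subtype.ext (by simpa using hUe.2 _ v.toMul.2))
  have hqg : ⁅⁅V, zpowers g⁆, zpowers g⁆ = ⊥ :=
    (quadratic_iff (by rw [normalizer_eq_top V]; exact mem_top g)).mpr hq
  have hqk : ⁅⁅V, zpowers (k * g * k⁻¹)⁆, zpowers (k * g * k⁻¹)⁆ = ⊥ := by
    have h1 := congrArg (Subgroup.map (MulAut.conj k).toMonoidHom) hqg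
    rw [map_commutator, map_commutator, MonoidHom.map_zpowers, Subgroup.map_bot,
      show V.map (MulAut.conj k).toMonoidHom = V from
        mem_normalizer_iff_map_conj_eq.mp (by rw [normalizer_eq_top V]; exact mem_top k)] at h1
    exact h1
  have hnp : ∃ x : L, ∀ n : ℕ, ρ (x ^ p ^ n) ≠ 1 := by
    by_contra hall
    push Not at hall
    apply hnot
    rw [← Set.image_pair, ← MonoidHom.map_closure]
    rintro ⟨_, e, he, rfl⟩
    obtain ⟨n, hn⟩ := Techniques.exists_pow_coprime (p := p) e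
    obtain ⟨l, hl⟩ := hall ⟨e, he⟩
    refine ⟨n, Subtype.ext ?_⟩
    rw [SubmonoidClass.coe_pow, Subgroup.coe_one, ← map_pow]
    refine (QuotientGroup.eq_one_iff _).mpr (hCF ?_)
    have hcl : π ((e ^ p ^ n) ^ p ^ l) ∈ centralizer (U : Set (G ⧸ Φ)) := by
      rw [← pow_mul, mul_comm, pow_mul, map_pow]
      exact pow_mem ((hρ _).1 hl) _
    have hc : π (e ^ p ^ n) ∈ centralizer (U : Set (G ⧸ Φ)) := by
      obtain ⟨i, hi⟩ := exists_pow_eq_self_of_coprime (x := e ^ p ^ n) (n := p ^ l)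
        ((hn.symm.pow_left l))
      rw [← hi, map_pow]
      exact pow_mem hcl _
    refine CfsgLib.Coprime.le_centralizer_of_commutator_le_frattini
      (A := Subgroup.zpowers (e ^ p ^ n)) (le_top.trans (normalizer_eq_top V).ge) ?_ ?_ (mem_zpowers _)
    · obtain ⟨r, hr⟩ := IsPGroup.iff_card.mp (hV.to_subgroup (frattini V))
      rw [Nat.card_zpowers, hr]
      exact hn.pow_right r
    · rw [← hΦ, ← QuotientGroup.ker_mk' Φ, ← Subgroup.map_eq_bot_iff, map_commutator,
        commutator_eq_bot_iff_le_centralizer, le_centralizer_iff, MonoidHom.map_zpowers, zpowers_le]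
      exact hc
  have hsq : ∀ x : L, ⁅⁅V, zpowers (x : G)⁆, zpowers (x : G)⁆ = ⊥ →
      (ρ x - 1) * (ρ x - 1) = 0 := fun x hx =>
    normEnd_sub_one_sq U (g := ⟨π x, hN _⟩) (quadratic_map π hx)
  have hap : IsPGroup p (zpowers a) := by
    rintro ⟨x, hx⟩
    obtain ⟨n, rfl⟩ := mem_zpowers_iff.1 hx
    obtain ⟨r, hr⟩ := hg ⟨g ^ n, n, rfl⟩
    exact ⟨r, Subtype.ext (Subtype.ext (by simpa [a] using congrArg Subtype.val hr))⟩
  obtain ⟨j, ⟨l, hl⟩, hj, R, hR, haR, hjn⟩ := exists_two_element_of_quadratic_pair hp2 hexp ρ hgen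
    (hsq a hqg) (hsq b hqk) hap hnp
  refine ⟨j, ⟨l, by rw [← SubmonoidClass.coe_pow, hl, Subgroup.coe_one]⟩, fun hc => hj ?_,
    R.map L.subtype, hR.map _, ⟨a, haR, rfl⟩, le_normalizer_map L.subtype (mem_map_of_mem _ hjn)⟩
  rw [hρ, mem_centralizer_iff]
  rintro _ ⟨v, hv, rfl⟩
  rw [← map_mul, ← map_mul, mem_centralizer_iff.1 hc v hv]

end CfsgLib.SEmbed.EvenAut
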