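import Cfsg.Agent.SEmbed.EvenAut.Climb
import Cfsg.Agent.SEmbed.EvenAut.Involution
import Cfsg.Agent.OddOrder.ZJ.Replacement
import Cfsg.Agent.OddOrder.AppA.AbelianGenerated
import Cfsg.Agent.OddOrder.BG1Stab
import Cfsg.Agent.UniqueMaximal.Basic
import Cfsg.Agent.Solvable.Nilpotent

/-!
# Even automisers of `p`-subgroups are seen in `N(Z(J(S)))`

For an odd prime `p`: if some two-element of a finite group normalises a `p`-subgroup without centralising
it, then this happens inside `N(Z(J(S)))`, `S` a Sylow `p`-subgroup.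
-/

set_option autoImplicit false

universe u

namespace CfsgLib.SEmbed.EvenAut

open Cfsg Subgroup CfsgLib.PLocal CfsgLib.OddOrder.ZJ CfsgLib.LocalEvenBasic
open scoped commutatorElement

variable {G : Type u} [Group G] [Finite G] {p : ℕ} [Fact p.Prime]

theorem eq_one_of_two_pow {V : Subgroup G} (hV : IsPGroup p V) (hp2 : p ≠ 2) {v : G} (hv : v ∈ V)
    {k : ℕ} (h : v ^ 2 ^ k = 1) : v = 1 := by
  obtain ⟨m, hm⟩ := hV ⟨v, hv⟩
  exact orderOf_eq_one_iff.1 (Nat.eq_one_of_dvd_coprimes
    (((Nat.coprime_primes Nat.prime_two Fact.out).2 (Ne.symm hp2)).pow k m)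
    (orderOf_dvd_of_pow_eq_one h) (orderOf_dvd_of_pow_eq_one (congrArg Subtype.val hm)))

/-- A proper overgroup of a Sylow subgroup with a pair finishes, by induction. -/
theorem pair_of_overgroup (hIH : ∀ Y : Subgroup G, Y ≠ ⊤ → Holds p Y) (P : Sylow p G) {Y : Subgroup G}
    (hPY : (P : Subgroup G) ≤ Y) (hp : Pair p Y) (hY : Y ≠ ⊤) :
    Pair p (normalizer (centerThompsonAOf (P : Subgroup G) : Set G)) :=
  pair_of_holds (hIH Y hY) hPY P.isPGroup' (fun _ hR _ hle => P.is_maximal' hR hle) hp

/-- A pair in `G/N` finishes unless the Sylow subgroup lies in `N`, if `O_p(G/N) = 1`. -/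
theorem not_pair_quotient (hIH : ∀ Y : Subgroup G, Y ≠ ⊤ → Holds p Y)
    (hIQ : ∀ (N : Subgroup G) [N.Normal], N ≠ ⊥ → Holds p (G ⧸ N)) (P : Sylow p G)
    (hno : ¬ Pair p (normalizer (centerThompsonAOf (P : Subgroup G) : Set G)))
    (N : Subgroup G) [N.Normal] (hN : N ≠ ⊥) (hcore : pCore p (G ⧸ N) = ⊥) :
    ¬ Pair p (⊤ : Subgroup (G ⧸ N)) := by
  intro hp
  set π := QuotientGroup.mk' N with hπ
  let Q : Sylow p (G ⧸ N) := P.mapSurjective (QuotientGroup.mk'_surjective N)
  have hlift := (hIQ N hN hp Q).of_quotient N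
  have hle : (P : Subgroup G) ≤
      (normalizer (centerThompsonAOf (Q : Subgroup (G ⧸ N)) : Set (G ⧸ N))).comap π := fun g hg =>
    le_normalizer_centerThompson _ (show π g ∈ (Q : Subgroup (G ⧸ N)) from mem_map_of_mem π hg)
  by_cases htop : (normalizer (centerThompsonAOf (Q : Subgroup (G ⧸ N)) : Set (G ⧸ N))).comap π = ⊤
  · haveI : (centerThompsonAOf (Q : Subgroup (G ⧸ N))).Normal := by
      rw [← normalizer_eq_top_iff, eq_top_iff]
      intro y _
      obtain ⟨g, rfl⟩ := QuotientGroup.mk'_surjective N y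
      exact htop.ge (mem_top g)
    have hbot : centerThompsonAOf (Q : Subgroup (G ⧸ N)) = ⊥ :=
      le_bot_iff.1 (hcore ▸ le_pCore (Q.isPGroup'.to_le (centerThompson_le _)))
    have hQ : (Q : Subgroup (G ⧸ N)) = ⊥ := by
      by_contra hne
      exact centerThompson_ne_bot Q.isPGroup' hne hbot
    obtain ⟨T, hT, hTp, -⟩ := hp.exists_ne_bot
    obtain ⟨Q', hQ'⟩ := hTp.exists_le_sylow
    have h1 : Nat.card Q' = 1 := by
      rw [Q'.card_eq_multiplicity, ← Q.card_eq_multiplicity, hQ, Subgroup.card_bot]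
    exact hT (le_bot_iff.1 (hQ'.trans (card_eq_one.1 h1).le))
  · exact hno (pair_of_overgroup hIH P hle hlift htop)

/-- The common end of both cases. -/
theorem pair_of_moves (hp2 : p ≠ 2) (hIH : ∀ Y : Subgroup G, Y ≠ ⊤ → Holds p Y)
    (hIQ : ∀ (N : Subgroup G) [N.Normal], N ≠ ⊥ → Holds p (G ⧸ N)) (P : Sylow p G)
    (hno : ¬ Pair p (normalizer (centerThompsonAOf (P : Subgroup G) : Set G)))
    {V A : Subgroup G} [V.Normal] (hV : IsPGroup p V) (hA : IsPGroup p A)
    (hnn : ∀ R : Subgroup G, IsPGroup p R → A ≤ R → normalizer (centerThompsonAOf R : Set G) ≠ ⊤)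
    {u : G} {k : ℕ} (hu : u ^ 2 ^ k = 1) (huV : u ∉ centralizer (V : Set G)) {g : G}
    (hgp : IsPGroup p (zpowers g)) (hq : ∀ v ∈ V, Commute ⁅v, g⁆ g)
    (hgF : g ∉ (pCore p (G ⧸ centralizer (V : Set G))).comap (QuotientGroup.mk' (centralizer (V : Set G))))
    (hgA : ∀ a ∈ A, QuotientGroup.mk'
      ((pCore p (G ⧸ centralizer (V : Set G))).comap (QuotientGroup.mk' (centralizer (V : Set G))))
      ⁅g, a⁆ = 1) : False := by
  set C := centralizer (V : Set G) with hC
  set F := (pCore p (G ⧸ C)).comap (QuotientGroup.mk' C) with hF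
  haveI : F.Normal := Subgroup.Normal.comap inferInstance _
  have hCF : C ≤ F := fun c hc => by
    rw [hF, mem_comap, QuotientGroup.mk'_apply, (QuotientGroup.eq_one_iff c).2 hc]
    exact one_mem _
  have hVF : V ≤ F := by
    haveI : (V.map (QuotientGroup.mk' C)).Normal :=
      Subgroup.Normal.map inferInstance _ (QuotientGroup.mk'_surjective _)
    exact map_le_iff_le_comap.1 (le_pCore (hV.map _))
  set π := QuotientGroup.mk' F with hπ
  have hcore : pCore p (G ⧸ F) = ⊥ := by
    rw [pCore_quotient_eq_bot_iff]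
    rintro D hD hFD ⟨i, hi⟩
    refine le_antisymm ?_ hFD
    obtain ⟨j, hj⟩ := IsPGroup.iff_card.1 (isPGroup_pCore p (G ⧸ C))
    have hCF' : C.relIndex F = p ^ j := by
      have h := relIndex_ker (K := F) (QuotientGroup.mk' C)
      rw [QuotientGroup.ker_mk', hF,
        map_comap_eq_self_of_surjective (QuotientGroup.mk'_surjective C)] at h
      exact h.trans hj
    have hCD : C.relIndex D = p ^ (j + i) := by
      rw [← relIndex_mul_relIndex C F D hCF hFD, hCF', hi, ← pow_add]
    haveI : (D.map (QuotientGroup.mk' C)).Normal := hD.map _ (QuotientGroup.mk'_surjective _)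
    have h := relIndex_ker (K := D) (QuotientGroup.mk' C)
    rw [QuotientGroup.ker_mk', hCD] at h
    exact map_le_iff_le_comap.1 (le_pCore (IsPGroup.of_card h.symm))
  have hFne : F ≠ ⊥ := fun h0 => huV (mem_centralizer_iff.2 fun v hv => by
    rw [show v = 1 from mem_bot.1 (h0 ▸ hVF hv), one_mul, mul_one])
  have hpl := not_pair_quotient hIH hIQ P hno F hFne hcore
  -- Baer: a conjugate of `g` not generating a `p`-group with it
  obtain ⟨c, hc⟩ : ∃ c : G, ¬ IsPGroup p ↥(Subgroup.closure ({π g, π (c * g * c⁻¹)} : Set (G ⧸ F))) := by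
    by_contra hall
    push Not at hall
    obtain ⟨N, hN, hNp, hgN⟩ := CfsgLib.Small.baerSuzuki_elem (p := p) (π g) fun q => by
      obtain ⟨c, rfl⟩ := QuotientGroup.mk'_surjective F q
      rw [← map_inv, ← map_mul, ← map_mul]
      exact hall c
    have := (hcore ▸ le_pCore (hN := hN) hNp : N ≤ ⊥) hgN
    exact hgF ((QuotientGroup.eq_one_iff g).1 (mem_bot.1 this))
  obtain ⟨j, ⟨l, hl⟩, hjV, R, hR, hgR, hjR⟩ := exists_two_element_conj hp2 hV hCF hgp hq hc
  have hjg : π j * π g = π g * π j := by
    by_contra hne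
    exact hpl ⟨R.map π, le_top, hR.map π, π j, mem_top _, ⟨l, by rw [← map_pow, hl, map_one]⟩,
      le_normalizer_map π (mem_map_of_mem π hjR),
      fun hcen => hne (mem_centralizer_iff.1 hcen _ (mem_map_of_mem π hgR)).symm⟩
  set Y := (centralizer ({π g} : Set (G ⧸ F))).comap π with hY
  have hjY : j ∈ Y := by
    rw [hY, mem_comap, mem_centralizer_singleton_iff]; exact hjg
  have hAY : A ≤ Y := fun a ha => by
    rw [hY, mem_comap, mem_centralizer_singleton_iff]
    have := hgA a ha
    rw [map_commutatorElement, commutatorElement_eq_one_iff_commute] at this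
    exact this.eq.symm
  have hVY : V ≤ Y := fun v hv => by
    rw [hY, mem_comap, mem_centralizer_singleton_iff, hπ, QuotientGroup.mk'_apply,
      (QuotientGroup.eq_one_iff v).2 (hVF hv), one_mul, mul_one]
  have hYtop : Y ≠ ⊤ := by
    intro htop
    haveI : (zpowers (π g)).Normal := ⟨fun x hx y => by
      obtain ⟨y, rfl⟩ := QuotientGroup.mk'_surjective F y
      obtain ⟨i, rfl⟩ := mem_zpowers_iff.1 hx
      have h1 : π y * π g = π g * π y := mem_centralizer_singleton_iff.1 (htop.ge (mem_top y))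
      rw [((show Commute (π y) (π g) from h1).zpow_right i).eq, mul_inv_cancel_right]
      exact ⟨i, rfl⟩⟩
    have hp' : IsPGroup p (zpowers (π g)) := by
      rw [← MonoidHom.map_zpowers]; exact hgp.map π
    have := (hcore ▸ le_pCore hp' : zpowers (π g) ≤ ⊥) (mem_zpowers _)
    exact hgF ((QuotientGroup.eq_one_iff g).1 (mem_bot.1 this))
  exact hno (climb hIH hA hnn hYtop hAY
    ⟨V, hVY, hV, j, hjY, ⟨l, hl⟩, by rw [normalizer_eq_top V]; exact mem_top j, hjV⟩ P)

/-- `N(S)` for `S = P ∩ F` moves `V`, so `S` lies in `O_p(G)`. -/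
theorem inf_le_pCore (hIH : ∀ Y : Subgroup G, Y ≠ ⊤ → Holds p Y) (P : Sylow p G)
    (hno : ¬ Pair p (normalizer (centerThompsonAOf (P : Subgroup G) : Set G)))
    {V : Subgroup G} [V.Normal] (hV : IsPGroup p V) (hVP : V ≤ (P : Subgroup G))
    {u : G} {k : ℕ} (hu : u ^ 2 ^ k = 1) (huV : u ∉ centralizer (V : Set G)) :
    (pCore p (G ⧸ centralizer (V : Set G))).comap (QuotientGroup.mk' (centralizer (V : Set G))) ⊓
      (P : Subgroup G) ≤ pCore p G := by
  set C := centralizer (V : Set G) with hC
  set F := (pCore p (G ⧸ C)).comap (QuotientGroup.mk' C) with hF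
  haveI : F.Normal := Subgroup.Normal.comap inferInstance _
  have hCF : C ≤ F := fun c hc => by
    rw [hF, mem_comap, QuotientGroup.mk'_apply, (QuotientGroup.eq_one_iff c).2 hc]
    exact one_mem _
  obtain ⟨j, hj⟩ := IsPGroup.iff_card.1 (isPGroup_pCore p (G ⧸ C))
  have hCF' : C.relIndex F = p ^ j := by
    have h := relIndex_ker (K := F) (QuotientGroup.mk' C)
    rw [QuotientGroup.ker_mk', hF,
      map_comap_eq_self_of_surjective (QuotientGroup.mk'_surjective C)] at h
    exact h.trans hj
  set S := F ⊓ (P : Subgroup G) with hS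
  have hfr : normalizer (S : Set G) ⊔ C = ⊤ := by
    rw [eq_top_iff, ← normalizer_inf_sylow_sup P F]
    exact sup_le le_sup_left ((le_inf_sylow_sup P hCF hCF').trans (sup_le_sup_right le_normalizer _))
  have hPN : (P : Subgroup G) ≤ normalizer (S : Set G) := fun g hg => by
    rw [mem_normalizer_iff]
    intro z
    constructor
    · exact fun hz => ⟨(inferInstance : F.Normal).conj_mem z hz.1 g,
        (P : Subgroup G).mul_mem ((P : Subgroup G).mul_mem hg hz.2) ((P : Subgroup G).inv_mem hg)⟩
    · intro hz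
      refine ⟨?_, ?_⟩
      · simpa [mul_assoc] using (inferInstance : F.Normal).conj_mem _ hz.1 g⁻¹
      · show z ∈ (P : Subgroup G)
        simpa [mul_assoc] using
          (P : Subgroup G).mul_mem ((P : Subgroup G).mul_mem ((P : Subgroup G).inv_mem hg) hz.2) hg
  have htop : normalizer (S : Set G) = ⊤ := by
    by_contra hne
    have hu' : u ∈ normalizer (S : Set G) ⊔ C := hfr ▸ mem_top u
    rw [← SetLike.mem_coe, mul_normal] at hu'
    obtain ⟨n, hn, c, hc, rfl⟩ := hu'
    have hπ : QuotientGroup.mk' C n = QuotientGroup.mk' C (n * c) :=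
      (QuotientGroup.mk'_eq_mk' (N := C)).2 ⟨c, hc, rfl⟩
    obtain ⟨m, hm, hgen⟩ := exists_two_pow_lift (QuotientGroup.mk' C) (n := n) (k := k)
      (show QuotientGroup.mk' C n ^ 2 ^ k = 1 by rw [hπ, ← map_pow, hu, map_one])
    refine hno (pair_of_overgroup hIH P hPN
      ⟨V, hVP.trans hPN, hV, n ^ m, pow_mem hn m, hm, by rw [normalizer_eq_top V]; exact mem_top _,
        fun hcm => huV ?_⟩ hne)
    rw [(QuotientGroup.eq_one_iff (N := C) (n ^ m)).2 hcm |> fun h => (QuotientGroup.mk'_apply C _).trans h,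
      zpowers_one_eq_bot, mem_bot, hπ] at hgen
    exact (QuotientGroup.eq_one_iff _).1 hgen
  haveI : S.Normal := normalizer_eq_top_iff.1 htop
  exact le_pCore (P.isPGroup'.to_le inf_le_right)

/-- The inductive step. -/
theorem holds_step (hp2 : p ≠ 2) (hIH : ∀ Y : Subgroup G, Y ≠ ⊤ → Holds p Y)
    (hIQ : ∀ (N : Subgroup G) [N.Normal], N ≠ ⊥ → Holds p (G ⧸ N)) : Holds p G := by
  intro hp P
  by_contra hno
  set B := centerThompsonAOf (P : Subgroup G) with hB
  have hBP : B ≤ (P : Subgroup G) := centerThompson_le _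
  have hBtop : normalizer (B : Set G) ≠ ⊤ := fun h => hno (h ▸ hp)
  set W := pCore p G with hW
  have hWP : W ≤ (P : Subgroup G) := pCore_le_sylow P
  have hWp : IsPGroup p W := isPGroup_pCore p G
  rcases eq_or_ne W ⊥ with hW0 | hW0
  · -- `O_p(G) = 1`
    obtain ⟨T, hT, hTp, hpT⟩ := hp.exists_ne_bot
    refine hno (climb hIH hTp (fun R hR hTR htop => ?_) (fun htop => ?_) le_normalizer hpT P)
    · haveI := normalizer_eq_top_iff.1 htop
      exact centerThompson_ne_bot hR (fun h => hT (le_bot_iff.1 (h ▸ hTR)))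
        (le_bot_iff.1 (hW0 ▸ le_pCore (hR.to_le (centerThompson_le R))))
    · haveI := normalizer_eq_top_iff.1 htop
      exact hT (le_bot_iff.1 (hW0 ▸ le_pCore hTp))
  obtain ⟨T, -, hTp, x, -, ⟨e, hx⟩, hxn, hxc⟩ := hp
  by_cases hBW : B ≤ W
  · -- second case
    haveI hBc := centerThompson_comm (P : Subgroup G)
    obtain ⟨D, ⟨hDB, hPD, hDV⟩, hDmin⟩ := Set.Finite.exists_minimal
      (s := {D : Subgroup G | D ≤ B ∧ (P : Subgroup G) ≤ normalizer (D : Set G) ∧
        ¬ normalClosure (D : Set G) ≤ B}) (Set.toFinite _)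
      ⟨B, le_rfl, le_normalizer_centerThompson _, fun h => hBtop (normalizer_eq_top_iff.2
        ((le_antisymm h le_normalClosure) ▸ normalClosure_normal))⟩
    set V := normalClosure (D : Set G) with hVdef
    haveI : V.Normal := normalClosure_normal
    have hDle : D ≤ V := le_normalClosure
    have hVW : V ≤ W := normalClosure_le_normal (hDB.trans hBW)
    have hVP : V ≤ (P : Subgroup G) := hVW.trans hWP
    have hV : IsPGroup p V := hWp.to_le hVW
    have hDne : D ≠ ⊥ := by
      intro h0
      apply hDV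
      rw [hVdef, h0]
      exact (normalClosure_le_normal (N := (⊥ : Subgroup G)) (by simp)).trans bot_le
    have hlt : ⁅D, (P : Subgroup G)⁆ < D := CfsgLib.Coprime.commutator_lt_of_isPGroup
      (P.isPGroup'.to_le (hDB.trans hBP)) P.isPGroup' hPD hDne
    set Z := normalClosure ((⁅D, (P : Subgroup G)⁆ : Subgroup G) : Set G) with hZdef
    haveI : Z.Normal := normalClosure_normal
    have hZB : Z ≤ B := by
      by_contra hcon
      exact (not_le_of_gt hlt) (hDmin ⟨hlt.le.trans hDB, (le_inf hPD le_normalizer).trans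
        (CfsgLib.LocalStructure.normalizer_le_normalizer_commutator D (P : Subgroup G)), hcon⟩ hlt.le)
    have hVcZ : V ≤ centralizer (Z : Set G) := normalClosure_le_normal fun d hd =>
      mem_centralizer_iff.2 fun z hz => congrArg Subtype.val
        (hBc.is_comm.comm ⟨z, hZB hz⟩ ⟨d, hDB hd⟩)
    have hVV : ⁅V, V⁆ ≤ Z := by
      set K := (centralizer ((V.map (QuotientGroup.mk' Z) : Subgroup (G ⧸ Z)) : Set (G ⧸ Z))).comap
        (QuotientGroup.mk' Z) with hK
      haveI : (V.map (QuotientGroup.mk' Z)).Normal :=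
        Subgroup.Normal.map inferInstance _ (QuotientGroup.mk'_surjective Z)
      haveI : K.Normal := Subgroup.Normal.comap inferInstance _
      have hmemK : ∀ g : G, g ∈ K ↔ ∀ b ∈ V, ⁅g, b⁆ ∈ Z := by
        intro g
        rw [hK, mem_comap, mem_centralizer_iff]
        constructor
        · intro h b hb
          rw [← QuotientGroup.eq_one_iff, ← QuotientGroup.mk'_apply, map_commutatorElement,
            commutatorElement_eq_one_iff_commute]
          exact (h _ (mem_map_of_mem _ hb)).symm
        · rintro h _ ⟨b, hb, rfl⟩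
          have h1 := h b hb
          rw [← QuotientGroup.eq_one_iff, ← QuotientGroup.mk'_apply, map_commutatorElement,
            commutatorElement_eq_one_iff_commute] at h1
          exact h1.eq.symm
      have hVK : V ≤ K := normalClosure_le_normal fun d hd => (hmemK d).2 fun b hb =>
        le_normalClosure (commutator_mem_commutator hd (hVP hb))
      exact commutator_le.2 fun v hv w hw => (hmemK v).1 (hVK hv) w hw
    have hcent : ∀ v ∈ V, ∀ w ∈ V, ∀ z ∈ V, Commute ⁅v, w⁆ z := fun v hv w hw z hz =>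
      mem_centralizer_iff.1 (hVcZ hz) _ (hVV (commutator_mem_commutator hv hw))
    have hodd : ∀ v ∈ V, v * v = 1 → v = 1 := fun v hv h2 =>
      eq_one_of_two_pow hV hp2 hv (k := 1) (by rw [pow_one, pow_two, h2])
    -- an abelian subgroup of largest order not containing `V`
    obtain ⟨A₀, hA₀⟩ : ∃ A ∈ maxAbIn (P : Subgroup G), ¬ V ≤ A := by
      by_contra hall
      push Not at hall
      refine hDV (fun v hv => mem_inf.2 ⟨?_, ?_⟩)
      · obtain ⟨A, hA⟩ := maxAbIn_nonempty (P : Subgroup G)
        exact le_thompsonSubgroupAOf hA (hall A hA hv)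
      · have hJ : thompsonSubgroupAOf (P : Subgroup G) ≤ centralizer {v} := by
          rw [thompsonSubgroupAOf_eq, sSup_le_iff]
          intro A hA a ha
          exact mem_centralizer_singleton_iff.2
            (commute_of_mem_isMulCommutative hA.2.1 ha (hall A hA hv))
        exact mem_centralizer_iff.2 fun y hy => mem_centralizer_singleton_iff.1 (hJ hy)
    obtain ⟨A, ⟨hA, hAV⟩, hAmax⟩ := Set.exists_max_image
      {A : Subgroup G | A ∈ maxAbIn (P : Subgroup G) ∧ ¬ V ≤ A}
      (fun A => Nat.card ↥(A ⊓ V)) (Set.toFinite _) ⟨A₀, hA₀⟩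
    have hAN : A ≤ normalizer (V : Set G) := by rw [normalizer_eq_top]; exact le_top
    have hVA : V ≤ normalizer (A : Set G) := by
      by_contra hnot
      obtain ⟨y, hyV, hyA, hystep⟩ := exists_step_element (p := p) P.isPGroup' hA.1 hVP hAN hnot
      have hstep : Step A V y :=
        ⟨hA.2.1, hAN, hVV.trans (hZB.trans (centerThompson_le_maxAb hA)), hcent, hyV, hystep⟩
      obtain ⟨h1, h2, h3, h4, -, h6⟩ := hstep.replace hodd hyA
      have hA' : replaceAt A y ∈ maxAbIn (P : Subgroup G) :=
        ⟨h6.trans (sup_le hA.1 hVP), h1, fun C hC hCe => (hA.2.2 C hC hCe).trans h2⟩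
      by_cases hVA' : V ≤ replaceAt A y
      · exact hnot (hVA'.trans h4)
      · have hlt' : Nat.card ↥(A ⊓ V) < Nat.card ↥(replaceAt A y ⊓ V) :=
          Set.ncard_lt_ncard (SetLike.coe_ssubset_coe.2 h3) |> fun h => by
            simpa only [← Nat.card_coe_set_eq, SetLike.coe_sort_coe] using h
        exact absurd (hAmax _ ⟨hA', hVA'⟩) (not_le.2 hlt')
    -- some two-element moves `V`
    obtain ⟨u, k, hu, huV⟩ : ∃ (u : G) (k : ℕ), u ^ 2 ^ k = 1 ∧ u ∉ centralizer (V : Set G) := by
      by_contra hall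
      push Not at hall
      set Y := centralizer (V : Set G) ⊔ (P : Subgroup G) with hY
      obtain ⟨Q, hQ⟩ := hTp.exists_le_sylow
      obtain ⟨c, hc⟩ := MulAction.exists_smul_eq G Q P
      have hc' : (Q : Subgroup G).map (MulAut.conj c).toMonoidHom = P := by rw [← hc]; rfl
      have hpY : Pair p Y := by
        refine ⟨T.map (MulAut.conj c).toMonoidHom, ((map_mono hQ).trans hc'.le).trans le_sup_right,
          hTp.map _, c * x * c⁻¹, mem_sup_left (hall _ e (by rw [conj_pow, hx]; simp)),
          ⟨e, by rw [conj_pow, hx]; simp⟩,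
          le_normalizer_map (MulAut.conj c).toMonoidHom ⟨x, hxn, rfl⟩, fun hcen => hxc ?_⟩
        refine mem_centralizer_iff.2 fun t ht => (MulAut.conj c).injective ?_
        rw [map_mul, map_mul]
        exact mem_centralizer_iff.1 hcen _ (mem_map_of_mem _ ht)
      refine hno (pair_of_overgroup hIH P le_sup_right hpY fun htop => hDV ?_)
      have hle : Y ≤ normalizer (D : Set G) :=
        sup_le ((centralizer_le hDle).trans (centralizer_le_normalizer _)) hPD
      haveI : D.Normal := normalizer_eq_top_iff.1 (top_le_iff.1 (htop.ge.trans hle))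
      exact (normalClosure_le_normal (N := D) le_rfl).trans hDB
    have hS := inf_le_pCore hIH P hno hV hVP hu huV
    set F := (pCore p (G ⧸ centralizer (V : Set G))).comap
      (QuotientGroup.mk' (centralizer (V : Set G))) with hF
    obtain ⟨g, hgA, hgF⟩ : ∃ g ∈ A, g ∉ F := by
      by_contra hall
      push Not at hall
      have hAW : A ≤ W := (le_inf hall hA.1).trans hS
      have hAW' : A ∈ maxAbIn W := ⟨hAW, hA.2.1, fun C hC hCe => hA.2.2 C (hC.trans hWP) hCe⟩
      have hJ : thompsonSubgroupAOf W ≤ thompsonSubgroupAOf (P : Subgroup G) := by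
        rw [thompsonSubgroupAOf_eq W, sSup_le_iff]
        exact fun C hC => le_thompsonSubgroupAOf
          ⟨hC.1.trans hWP, hC.2.1, fun E hE hEe => (hA.2.2 E hE hEe).trans (hC.2.2 A hAW hA.2.1)⟩
      haveI : (centerThompsonAOf W).Normal := normalizer_eq_top_iff.1 (top_le_iff.1
        ((normalizer_eq_top W).ge.trans (normalizer_le_normalizer_centerThompson W)))
      have hDW : D ≤ centerThompsonAOf W := fun d hd =>
        mem_inf.2 ⟨le_thompsonSubgroupAOf hAW' (centerThompson_le_maxAb hA (hDB hd)),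
          centralizer_le hJ (hDB hd).2⟩
      exact hAV ((normalClosure_le_normal hDW).trans (centerThompson_le_maxAb hAW'))
    refine pair_of_moves hp2 hIH hIQ P hno hV (P.isPGroup'.to_le hA.1) (fun R hR hAR htop => ?_) hu huV
      (P.isPGroup'.to_le (zpowers_le.2 (hA.1 hgA)))
      (fun v hv => OddOrder.Quad.commute_commutator_of_abelian hA.2.1 hVA hgA hv) hgF (fun a ha => ?_)
    · -- `Z(J(R))` is never normal
      haveI := normalizer_eq_top_iff.1 htop
      obtain ⟨Q, hQ⟩ := hR.exists_le_sylow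
      obtain ⟨c, hc⟩ := MulAction.exists_smul_eq G P Q
      have hc' : (P : Subgroup G).map (MulAut.conj c).toMonoidHom = Q := by rw [← hc]; rfl
      have hAQ : A ∈ maxAbIn (Q : Subgroup G) := by
        refine ⟨hAR.trans hQ, hA.2.1, fun C hC hCe => ?_⟩
        have h1 : C.map (MulAut.conj c⁻¹).toMonoidHom ≤ (P : Subgroup G) := by
          rintro _ ⟨y, hy, rfl⟩
          obtain ⟨z, hz, hzy⟩ := hc'.ge (hC hy)
          rw [← hzy]
          show c⁻¹ * (c * z * c⁻¹) * c⁻¹⁻¹ ∈ (P : Subgroup G)
          rw [show c⁻¹ * (c * z * c⁻¹) * c⁻¹⁻¹ = z by group]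
          exact hz
        rw [← card_map_of_injective (K := C) (f := (MulAut.conj c⁻¹).toMonoidHom) (MulAut.conj c⁻¹).injective]
        exact hA.2.2 _ h1 (PLocal.isMulCommutative_map hCe _)
      have hAR' : A ∈ maxAbIn R := ⟨hAR, hA.2.1, fun C hC hCe => hAQ.2.2 C (hC.trans hQ) hCe⟩
      have hJ : thompsonSubgroupAOf R ≤ thompsonSubgroupAOf (Q : Subgroup G) := by
        rw [thompsonSubgroupAOf_eq R, sSup_le_iff]
        exact fun C hC => le_thompsonSubgroupAOf
          ⟨hC.1.trans hQ, hC.2.1, fun E hE hEe => (hAQ.2.2 E hE hEe).trans (hC.2.2 A hAR hA.2.1)⟩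
      have hZ : centerThompsonAOf (Q : Subgroup G) ≤ centerThompsonAOf R := fun z hz =>
        mem_inf.2 ⟨le_thompsonSubgroupAOf hAR' (centerThompson_le_maxAb hAQ hz),
          centralizer_le hJ hz.2⟩
      refine hAV ((normalClosure_le_normal fun d hd => ?_).trans (centerThompson_le_maxAb hAR'))
      have h1 : c * d * c⁻¹ ∈ centerThompsonAOf R := hZ (by
        rw [← hc', ← map_centerThompsonAOf (MulAut.conj c).injective]
        exact mem_map_of_mem _ (hDB hd))
      simpa [mul_assoc] using (inferInstance : (centerThompsonAOf R).Normal).conj_mem _ h1 c⁻¹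
    · rw [commutatorElement_eq_one_iff_commute.2 (commute_of_mem_isMulCommutative hA.2.1 hgA ha), map_one]
  · -- first case
    haveI hBc := centerThompson_comm (P : Subgroup G)
    have hcore : pCore p (G ⧸ W) = ⊥ := by
      rw [← Subgroup.map_comap_eq_self_of_surjective (QuotientGroup.mk'_surjective W) (pCore p (G ⧸ W)),
        comap_pCore_quotient W hWp]
      exact QuotientGroup.map_mk'_self W
    have hpl := not_pair_quotient hIH hIQ P hno W hW0 hcore
    have huW : x ∉ centralizer (W : Set G) := by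
      intro hxW
      apply hxc
      refine mem_centralizer_iff.2 fun t ht => ?_
      have hmem : ⁅x, t⁆ ∈ W := by
        rw [← QuotientGroup.eq_one_iff, ← QuotientGroup.mk'_apply, map_commutatorElement,
          commutatorElement_eq_one_iff_commute]
        by_contra hne
        exact hpl ⟨T.map (QuotientGroup.mk' W), le_top, hTp.map _, QuotientGroup.mk' W x, mem_top _,
          ⟨e, by rw [← map_pow, hx, map_one]⟩, le_normalizer_map _ (mem_map_of_mem _ hxn),
          fun hcen => hne (mem_centralizer_iff.1 hcen _ (mem_map_of_mem _ ht)).symm⟩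
      refine (CfsgLib.OddOrder.Stab.commute_of_stab_mem (H := W)
        ((mem_centralizer_iff.1 hxW _ hmem).symm) hmem ?_).eq.symm
      obtain ⟨m, hm⟩ := IsPGroup.iff_card.1 hWp
      rw [hm]
      exact (((Nat.coprime_primes Nat.prime_two Fact.out).2 (Ne.symm hp2)).pow e m).coprime_dvd_left
        (orderOf_dvd_of_pow_eq_one hx)
    have hS := inf_le_pCore hIH P hno hWp hWP hx huW
    set F := (pCore p (G ⧸ centralizer (W : Set G))).comap
      (QuotientGroup.mk' (centralizer (W : Set G))) with hF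
    haveI : F.Normal := Subgroup.Normal.comap inferInstance _
    set π := QuotientGroup.mk' F with hπ
    have hBF : B.map π ≠ ⊥ := fun h => hBW (by
      rw [Subgroup.map_eq_bot_iff, hπ, QuotientGroup.ker_mk'] at h
      exact (le_inf h hBP).trans hS)
    -- `g ∈ B` central in the Sylow subgroup modulo `F`
    haveI : ((B.map π).subgroupOf ((P : Subgroup G).map π)).Normal :=
      (normal_subgroupOf_iff_le_normalizer (map_mono hBP)).2
        ((map_mono (le_normalizer_centerThompson _)).trans (le_normalizer_map π))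
    obtain ⟨⟨_, g, hg, rfl⟩, hgz, hg1⟩ : ∃ z : B.map π,
        (∀ y ∈ (P : Subgroup G).map π, y * z = z * y) ∧ (z : G ⧸ F) ≠ 1 := by
      haveI := (P.isPGroup'.map π).isNilpotent
      have hne : (B.map π).subgroupOf ((P : Subgroup G).map π) ≠ ⊥ := fun h => hBF (by
        rwa [Subgroup.subgroupOf_eq_bot, disjoint_iff, inf_of_le_left (map_mono hBP)] at h)
      obtain ⟨z, hz, hz1⟩ := ((_ : Subgroup _).bot_or_exists_ne_one).resolve_left
        (CfsgLib.Solvable.inf_center_ne_bot hne)
      exact ⟨⟨z, hz.1⟩, fun y hy => congrArg Subtype.val (mem_center_iff.1 hz.2 ⟨y, hy⟩),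
        fun h => hz1 (Subtype.ext h)⟩
    refine pair_of_moves hp2 hIH hIQ P hno hWp P.isPGroup' (fun R hR hPR htop => ?_) hx huW
      (P.isPGroup'.to_le (zpowers_le.2 (hBP hg)))
      (fun v hv => OddOrder.Quad.commute_commutator_of_abelian hBc
        (hWP.trans (le_normalizer_centerThompson _)) hg hv)
      (fun hmem => hg1 ((QuotientGroup.eq_one_iff g).2 hmem)) (fun a ha => ?_)
    · rw [P.is_maximal' hR hPR] at htop
      exact hBtop htop
    · rw [map_commutatorElement, commutatorElement_eq_one_iff_commute]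
      exact (hgz _ (mem_map_of_mem π ha)).symm

/-- **Theorem E**: for odd `p`, even automisers of `p`-subgroups are seen in `N(Z(J(S)))`. -/
theorem pair_normalizer_centerThompson (hp2 : p ≠ 2) (hp : Pair p (⊤ : Subgroup G)) (S : Sylow p G) :
    Pair p (normalizer (centerThompsonAOf (S : Subgroup G) : Set G)) := by
  suffices H : ∀ (n : ℕ) (X : Type u) [Group X] [Finite X], Nat.card X = n → Holds p X from
    H _ G rfl hp S
  intro n
  induction n using Nat.strongRecOn with
  | ind n ih =>
    intro X _ _ hX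
    refine holds_step hp2 (fun Y hY => ih _ ?_ Y rfl) (fun N _ hN => ih _ ?_ (X ⧸ N) rfl)
    · rw [← hX]
      refine lt_of_le_of_ne (Subgroup.card_le_card_group Y) fun h => hY (eq_top_of_card_eq Y h)
    · have h1 := N.card_mul_index
      have h2 : Nat.card N ≠ 1 := fun h => hN (card_eq_one.mp h)
      have h3 : 0 < Nat.card N := Nat.card_pos
      have h4 : N.index ≠ 0 := FiniteIndex.index_ne_zero
      show N.index < n
      nlinarith [show 1 < Nat.card N by omega, Nat.pos_of_ne_zero h4]

end CfsgLib.SEmbed.EvenAut
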